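import Mathlib

/-!
# `Sp_{2n}(q)`, `q` even: the Siegel radical and its Levi complement (definitions)

`symAdd n F` is the additive group of symmetric `n × n` matrices, `uHom` embeds it into
`Sp_{2n}(F) = Matrix.symplecticGroup (Fin n) F` as the matrices `[[1, S], [0, 1]]`, `levHom` embeds
`GL_n(F)` as `[[A, 0], [0, A⁻ᵀ]]`, and `GL_n(F)` acts on `symAdd n F` by `A • S = A S Aᵀ`, compatibly
with conjugation (`lev_conj`).
-/

set_option autoImplicit false

namespace Cfsg.Agent.Helper80.SpE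

open Matrix

variable {F : Type*} [Field F] {n : ℕ}

/-- the additive group of symmetric matrices -/
def symAdd (n : ℕ) (F : Type*) [Field F] : AddSubgroup (Matrix (Fin n) (Fin n) F) where
  carrier := {S | Sᵀ = S}
  add_mem' := by
    intro a b ha hb
    show (a + b)ᵀ = a + b
    rw [transpose_add, show aᵀ = a from ha, show bᵀ = b from hb]
  zero_mem' := transpose_zero
  neg_mem' := by
    intro a ha
    show (-a)ᵀ = -a
    rw [transpose_neg, show aᵀ = a from ha]

theorem mem_symAdd {S : Matrix (Fin n) (Fin n) F} : S ∈ symAdd n F ↔ Sᵀ = S := Iff.rfl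

theorem symAdd_transpose (S : symAdd n F) : (S : Matrix (Fin n) (Fin n) F)ᵀ = S := S.2

/-- `M + Mᵀ` is symmetric -/
def symOf (M : Matrix (Fin n) (Fin n) F) : symAdd n F :=
  ⟨M + Mᵀ, by
    show (M + Mᵀ)ᵀ = M + Mᵀ
    rw [transpose_add, transpose_transpose, add_comm]⟩

@[simp] theorem symOf_coe (M : Matrix (Fin n) (Fin n) F) :
    ((symOf M : symAdd n F) : Matrix (Fin n) (Fin n) F) = M + Mᵀ := rfl

/-- `c • v vᵀ` is symmetric -/
def symRank1 (c : F) (v : Fin n → F) : symAdd n F :=
  ⟨c • vecMulVec v v, by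
    show (c • vecMulVec v v)ᵀ = c • vecMulVec v v
    rw [transpose_smul, transpose_vecMulVec]⟩

@[simp] theorem symRank1_coe (c : F) (v : Fin n → F) :
    ((symRank1 c v : symAdd n F) : Matrix (Fin n) (Fin n) F) = c • vecMulVec v v := rfl

/-- the matrix `[[1, S], [0, 1]]` -/
def uMat (S : Matrix (Fin n) (Fin n) F) : Matrix (Fin n ⊕ Fin n) (Fin n ⊕ Fin n) F :=
  fromBlocks 1 S 0 1

theorem uMat_mem {S : Matrix (Fin n) (Fin n) F} (hS : Sᵀ = S) :
    uMat S ∈ symplecticGroup (Fin n) F := by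
  rw [uMat, SymplecticGroup.fromBlocks_mem_iff]
  refine ⟨by simp, by simp [hS], by simp⟩

theorem uMat_mul (S T : Matrix (Fin n) (Fin n) F) : uMat S * uMat T = uMat (S + T) := by
  simp [uMat, fromBlocks_multiply, add_comm]

theorem uMat_zero : uMat (0 : Matrix (Fin n) (Fin n) F) = 1 := by
  simp [uMat]

/-- the Siegel unipotent radical, as a homomorphism from the symmetric matrices -/
def uHom : Multiplicative (symAdd n F) →* symplecticGroup (Fin n) F where
  toFun S := ⟨uMat ((Multiplicative.toAdd S : symAdd n F) : Matrix (Fin n) (Fin n) F),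
    uMat_mem (Multiplicative.toAdd S).2⟩
  map_one' := Subtype.ext uMat_zero
  map_mul' _ _ := Subtype.ext (uMat_mul _ _).symm

@[simp] theorem uHom_coe (S : symAdd n F) :
    ((uHom (Multiplicative.ofAdd S) : symplecticGroup (Fin n) F) :
      Matrix (Fin n ⊕ Fin n) (Fin n ⊕ Fin n) F) = uMat (S : Matrix (Fin n) (Fin n) F) := rfl

theorem uHom_injective : Function.Injective (uHom (F := F) (n := n)) := by
  intro S T h
  have h1 := congrArg (fun g : symplecticGroup (Fin n) F =>
    (g : Matrix (Fin n ⊕ Fin n) (Fin n ⊕ Fin n) F).toBlocks₁₂) h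
  simp only [uHom, MonoidHom.coe_mk, OneHom.coe_mk, uMat, toBlocks_fromBlocks₁₂] at h1
  exact Multiplicative.toAdd.injective (Subtype.ext h1)

/-- the matrix `[[A, 0], [0, A⁻ᵀ]]` -/
def levMat (A : GL (Fin n) F) : Matrix (Fin n ⊕ Fin n) (Fin n ⊕ Fin n) F :=
  fromBlocks (A : Matrix (Fin n) (Fin n) F) 0 0
    ((A⁻¹ : GL (Fin n) F) : Matrix (Fin n) (Fin n) F)ᵀ

theorem levMat_mem (A : GL (Fin n) F) : levMat A ∈ symplecticGroup (Fin n) F := by
  rw [levMat, SymplecticGroup.fromBlocks_mem_iff]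
  refine ⟨by simp, by simp, ?_⟩
  rw [← transpose_mul]
  simp

theorem levMat_mul (A B : GL (Fin n) F) : levMat A * levMat B = levMat (A * B) := by
  simp only [levMat, fromBlocks_multiply, mul_zero, zero_mul, add_zero, zero_add, _root_.mul_inv_rev,
    Units.val_mul, transpose_mul]

theorem levMat_one : levMat (1 : GL (Fin n) F) = 1 := by
  simp [levMat]

/-- the Levi complement of the Siegel parabolic -/
def levHom : GL (Fin n) F →* symplecticGroup (Fin n) F where
  toFun A := ⟨levMat A, levMat_mem A⟩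
  map_one' := Subtype.ext levMat_one
  map_mul' A B := Subtype.ext (levMat_mul A B).symm

@[simp] theorem levHom_coe (A : GL (Fin n) F) :
    ((levHom A : symplecticGroup (Fin n) F) : Matrix (Fin n ⊕ Fin n) (Fin n ⊕ Fin n) F) =
      levMat A := rfl

/-- `GL_n` acts on the symmetric matrices by `A • S = A S Aᵀ` -/
instance : DistribMulAction (GL (Fin n) F) (symAdd n F) where
  smul A S := ⟨(A : Matrix (Fin n) (Fin n) F) * (S : Matrix (Fin n) (Fin n) F) *
      (A : Matrix (Fin n) (Fin n) F)ᵀ, by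
    show (_ * _ * _)ᵀ = _
    rw [transpose_mul, transpose_mul, transpose_transpose, symAdd_transpose, Matrix.mul_assoc]⟩
  one_smul S := Subtype.ext (by
    show (1 : Matrix (Fin n) (Fin n) F) * _ * (1 : Matrix (Fin n) (Fin n) F)ᵀ = _
    simp)
  mul_smul A B S := Subtype.ext (by
    show ((A * B : GL (Fin n) F) : Matrix (Fin n) (Fin n) F) * _ *
      ((A * B : GL (Fin n) F) : Matrix (Fin n) (Fin n) F)ᵀ =
      (A : Matrix (Fin n) (Fin n) F) * ((B : Matrix (Fin n) (Fin n) F) * _ *
        (B : Matrix (Fin n) (Fin n) F)ᵀ) * (A : Matrix (Fin n) (Fin n) F)ᵀ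
    simp only [Units.val_mul, transpose_mul, Matrix.mul_assoc])
  smul_zero A := Subtype.ext (by
    show (A : Matrix (Fin n) (Fin n) F) * (0 : Matrix (Fin n) (Fin n) F) * _ = 0
    simp)
  smul_add A S T := Subtype.ext (by
    show (A : Matrix (Fin n) (Fin n) F) * ((S : Matrix (Fin n) (Fin n) F) + T) * _ =
      (A : Matrix (Fin n) (Fin n) F) * S * _ + (A : Matrix (Fin n) (Fin n) F) * T * _
    rw [Matrix.mul_add, Matrix.add_mul])

@[simp] theorem smul_coe (A : GL (Fin n) F) (S : symAdd n F) :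
    ((A • S : symAdd n F) : Matrix (Fin n) (Fin n) F) =
      (A : Matrix (Fin n) (Fin n) F) * (S : Matrix (Fin n) (Fin n) F) *
        (A : Matrix (Fin n) (Fin n) F)ᵀ := rfl

/-- conjugation by the Levi complement acts on the radical through `A • S = A S Aᵀ` -/
theorem lev_conj (A : GL (Fin n) F) (S : symAdd n F) :
    levHom A * uHom (Multiplicative.ofAdd S) * (levHom A)⁻¹ =
      uHom (Multiplicative.ofAdd (A • S)) := by
  rw [mul_inv_eq_iff_eq_mul]
  apply Subtype.ext
  show levMat A * uMat (S : Matrix (Fin n) (Fin n) F) =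
    uMat ((A • S : symAdd n F) : Matrix (Fin n) (Fin n) F) * levMat A
  simp only [levMat, uMat, fromBlocks_multiply, smul_coe, mul_one, mul_zero, add_zero, zero_mul,
    zero_add, one_mul]
  congr 1
  rw [Matrix.mul_assoc, ← transpose_mul]
  simp

/-- the action on rank one matrices -/
theorem smul_symRank1 (A : GL (Fin n) F) (c : F) (v : Fin n → F) :
    A • symRank1 c v = symRank1 c ((A : Matrix (Fin n) (Fin n) F) *ᵥ v) := by
  apply Subtype.ext
  simp only [smul_coe, symRank1_coe]
  rw [Matrix.mul_smul, Matrix.smul_mul]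
  congr 1
  rw [Matrix.mul_vecMulVec, Matrix.vecMulVec_mul, vecMul_transpose]

/-- the action on `M + Mᵀ` -/
theorem smul_symOf (A : GL (Fin n) F) (M : Matrix (Fin n) (Fin n) F) :
    A • symOf M = symOf ((A : Matrix (Fin n) (Fin n) F) * M * (A : Matrix (Fin n) (Fin n) F)ᵀ) := by
  apply Subtype.ext
  simp only [smul_coe, symOf_coe, transpose_mul, transpose_transpose, Matrix.mul_add,
    Matrix.add_mul, Matrix.mul_assoc]

instance [Fintype F] : Finite (symAdd n F) := Subtype.finite

end Cfsg.Agent.Helper80.SpE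

namespace Cfsg.Agent.Helper80.SpE

open Matrix

variable {F : Type*} [Field F] {n : ℕ}

/-- the quadratic form `v ↦ vᵀ C v` -/
def qf (C : Matrix (Fin n) (Fin n) F) : QuadraticForm F (Fin n → F) := Matrix.toQuadraticForm' C

theorem qf_apply (C : Matrix (Fin n) (Fin n) F) (v : Fin n → F) : qf C v = v ⬝ᵥ (C *ᵥ v) := by
  simp [qf, Matrix.toQuadraticForm', Matrix.toLinearMap₂'_apply']

theorem polar_qf (C : Matrix (Fin n) (Fin n) F) (v w : Fin n → F) :
    QuadraticMap.polar (qf C) v w = v ⬝ᵥ ((C + Cᵀ) *ᵥ w) := by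
  simp only [QuadraticMap.polar, qf_apply, Matrix.mulVec_add, add_dotProduct, dotProduct_add,
    Matrix.add_mulVec]
  have h : w ⬝ᵥ (C *ᵥ v) = v ⬝ᵥ (Cᵀ *ᵥ w) := by
    rw [Matrix.mulVec_transpose, dotProduct_comm v, ← Matrix.dotProduct_mulVec]
  rw [h]
  ring

end Cfsg.Agent.Helper80.SpE
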