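import Cfsg.Agent.Helper80.SpE.Pieces

/-!
# The isometry group of a quadratic form in characteristic 2 is small (assembly)
-/

set_option autoImplicit false
set_option linter.style.haveILetI false
set_option linter.unusedSectionVars false

namespace Cfsg.Agent.Helper80.SpE

open Matrix

/-- counting by fibres -/
theorem card_le_of_fibers {α β : Type*} [Finite α] [Finite β] (f : α → β) (c : ℕ)
    (h : ∀ b, Nat.card {a // f a = b} ≤ c) : Nat.card α ≤ Nat.card β * c := by
  classical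
  haveI := Fintype.ofFinite α
  haveI := Fintype.ofFinite β
  rw [Nat.card_congr (Equiv.sigmaFiberEquiv f).symm, Nat.card_eq_fintype_card, Fintype.card_sigma]
  calc ∑ b, Fintype.card {a // f a = b} ≤ ∑ _b : β, c := by
        apply Finset.sum_le_sum
        intro b _
        rw [← Nat.card_eq_fintype_card]
        exact h b
    _ = Nat.card β * c := by
        rw [Finset.sum_const, Finset.card_univ, Nat.card_eq_fintype_card, smul_eq_mul]

section quadglue

variable {F : Type*} [Field F] [Fintype F] {V : Type*} [AddCommGroup V] [Module F V] [Fintype V]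

/-- (Q1) a quadratic form on `F^d` has at least `q^(d-2)` zeros. -/
theorem card_le_sq_mul_card_zeros (h2 : (2 : F) = 0) (Q : QuadraticForm F V) :
    Fintype.card V ≤ Fintype.card F ^ 2 * Nat.card {v : V // Q v = 0} := by
  classical
  apply card_le_of_singular h2 Q
  intro H hH
  letI : Fintype H := Fintype.ofFinite _
  obtain ⟨e, he0, he⟩ := exists_singular h2 (Q.comp H.subtype) hH
  exact ⟨e.1, e.2, fun h => he0 (Subtype.ext h), he⟩

end quadglue

section iso

variable {F : Type*} [Field F] [Fintype F] {n : ℕ}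

theorem polar_self_eq_zero (h2 : (2 : F) = 0) {V : Type*} [AddCommGroup V] [Module F V]
    (Q : QuadraticForm F V) (x : V) : QuadraticMap.polar Q x x = 0 := by
  have hxx : x + x = 0 := by
    rw [← two_smul F x, h2, zero_smul]
  unfold QuadraticMap.polar
  rw [hxx, QuadraticMap.map_zero]
  have : Q x + Q x = 0 := by
    rw [← two_mul, h2, zero_mul]
  linear_combination -this

/-- existence of a good pair -/
theorem exists_good_pair (h2 : (2 : F) = 0) (C : Matrix (Fin n) (Fin n) F) (hC : C + Cᵀ ≠ 0) :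
    ∃ x y : Fin n → F, qf C x ≠ 0 ∧ QuadraticMap.polar (qf C) x y ≠ 0 := by
  classical
  have h1 : ∃ x y : Fin n → F, QuadraticMap.polar (qf C) x y ≠ 0 := by
    by_contra hcon
    push Not at hcon
    apply hC
    ext i j
    have := hcon (Pi.single i 1) (Pi.single j 1)
    rw [polar_qf] at this
    simpa using this
  obtain ⟨x, y, hxy⟩ := h1
  by_cases hx : qf C x = 0
  · by_cases hy : qf C y = 0
    · refine ⟨x + y, y, ?_, ?_⟩
      · have : qf C (x + y) = QuadraticMap.polar (qf C) x y := by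
          unfold QuadraticMap.polar
          rw [hx, hy]; ring
        rw [this]; exact hxy
      · rw [QuadraticMap.polar_add_left, polar_self_eq_zero h2, add_zero]
        exact hxy
    · exact ⟨y, x, hy, by rw [QuadraticMap.polar_comm]; exact hxy⟩
  · exact ⟨x, y, hx, hxy⟩

/-- (★) the isometry group of a quadratic form with non-zero polar form -/
theorem card_isometry_bound (h2 : (2 : F) = 0) (hn : 2 ≤ n) (C : Matrix (Fin n) (Fin n) F)
    (hC : C + Cᵀ ≠ 0) :
    Nat.card {A : GL (Fin n) F //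
        ∀ v : Fin n → F, qf C ((A : Matrix (Fin n) (Fin n) F) *ᵥ v) = qf C v} *
      ((Fintype.card F ^ n - 1) * (Fintype.card F ^ n - Fintype.card F)) ≤
      2 * (Fintype.card F + 1) * Nat.card (GL (Fin n) F) := by
  classical
  obtain ⟨m, rfl⟩ : ∃ m, n = m + 2 := ⟨n - 2, by omega⟩
  set q := Fintype.card F with hq
  have hq1 : 1 ≤ q := Fintype.card_pos
  set Q := qf C with hQ
  obtain ⟨x0, y0, hx0, hxy0⟩ := exists_good_pair h2 C hC
  set α := Q x0 with hα
  set β := QuadraticMap.polar Q x0 y0 with hβ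
  set γ := Q y0 with hγ
  have hcardV : Fintype.card (Fin (m + 2) → F) = q ^ (m + 2) := by
    rw [Fintype.card_fun, Fintype.card_fin]
  -- the three counting inputs
  have hN : Nat.card {v : Fin (m + 2) → F // Q v = α} ≤ (q + 1) * q ^ m := by
    have h0 := card_le_sq_mul_card_zeros h2 Q
    have h1 := card_level_le h2 Q h0 α hx0
    rw [hcardV] at h1
    have : q ^ 2 * Nat.card {v : Fin (m + 2) → F // Q v = α} ≤ q ^ 2 * ((q + 1) * q ^ m) := by
      calc _ ≤ (q + 1) * q ^ (m + 2) := h1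
        _ = q ^ 2 * ((q + 1) * q ^ m) := by ring
    exact Nat.le_of_mul_le_mul_left this (by positivity)
  have hY : ∀ x : Fin (m + 2) → F, Q x = α →
      Nat.card {y : Fin (m + 2) → F // Q y = γ ∧ QuadraticMap.polar Q x y = β} ≤ 2 * q ^ m := by
    intro x hx
    have h1 := card_fiber_le h2 Q x (by rw [hx]; exact hx0) β hxy0 γ
    rw [hcardV] at h1
    have : q ^ 2 * Nat.card {y : Fin (m + 2) → F // Q y = γ ∧ QuadraticMap.polar Q x y = β} ≤
        q ^ 2 * (2 * q ^ m) := by
      calc _ ≤ 2 * q ^ (m + 2) := h1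
        _ = q ^ 2 * (2 * q ^ m) := by ring
    exact Nat.le_of_mul_le_mul_left this (by positivity)
  have hK : Nat.card {A : GL (Fin (m + 2)) F //
        (∀ v : Fin (m + 2) → F, Q ((A : Matrix (Fin (m + 2)) (Fin (m + 2)) F) *ᵥ v) = Q v) ∧
        (A : Matrix (Fin (m + 2)) (Fin (m + 2)) F) *ᵥ x0 = x0 ∧
        (A : Matrix (Fin (m + 2)) (Fin (m + 2)) F) *ᵥ y0 = y0} ≤ Nat.card (GL (Fin m) F) :=
    card_stab_le h2 Q x0 y0 hxy0
  -- the set of pairs
  have hT : Nat.card {p : (Fin (m + 2) → F) × (Fin (m + 2) → F) //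
      Q p.1 = α ∧ Q p.2 = γ ∧ QuadraticMap.polar Q p.1 p.2 = β} ≤ (q + 1) * q ^ m * (2 * q ^ m) := by
    let f : {p : (Fin (m + 2) → F) × (Fin (m + 2) → F) //
        Q p.1 = α ∧ Q p.2 = γ ∧ QuadraticMap.polar Q p.1 p.2 = β} →
        {v : Fin (m + 2) → F // Q v = α} := fun p => ⟨p.1.1, p.2.1⟩
    refine (card_le_of_fibers f (2 * q ^ m) ?_).trans (Nat.mul_le_mul_right _ hN)
    rintro ⟨x, hx⟩
    refine le_trans ?_ (hY x hx)
    apply Nat.card_le_card_of_injective
      (fun p : {a // f a = ⟨x, hx⟩} => (⟨p.1.1.2, by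
        have h1 : p.1.1.1 = x := congrArg Subtype.val p.2
        have h2 := p.1.2
        rw [h1] at h2
        exact ⟨h2.2.1, h2.2.2⟩⟩ :
        {y : Fin (m + 2) → F // Q y = γ ∧ QuadraticMap.polar Q x y = β}))
    rintro ⟨⟨⟨a1, a2⟩, ha⟩, ha'⟩ ⟨⟨⟨b1, b2⟩, hb⟩, hb'⟩ hab
    have h1 : a1 = x := congrArg Subtype.val ha'
    have h2 : b1 = x := congrArg Subtype.val hb'
    have h3 : a2 = b2 := congrArg Subtype.val hab
    subst h1 h3
    simp only [Subtype.mk.injEq, Prod.mk.injEq, and_true]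
    exact h2.symm
  -- the group of isometries maps to the pairs
  have hI : Nat.card {A : GL (Fin (m + 2)) F //
        ∀ v : Fin (m + 2) → F, Q ((A : Matrix (Fin (m + 2)) (Fin (m + 2)) F) *ᵥ v) = Q v} ≤
      (q + 1) * q ^ m * (2 * q ^ m) * Nat.card (GL (Fin m) F) := by
    have hpol : ∀ (A : GL (Fin (m + 2)) F),
        (∀ v : Fin (m + 2) → F, Q ((A : Matrix (Fin (m + 2)) (Fin (m + 2)) F) *ᵥ v) = Q v) →
        ∀ v w : Fin (m + 2) → F, QuadraticMap.polar Q
          ((A : Matrix (Fin (m + 2)) (Fin (m + 2)) F) *ᵥ v)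
          ((A : Matrix (Fin (m + 2)) (Fin (m + 2)) F) *ᵥ w) = QuadraticMap.polar Q v w := by
      intro A hA v w
      unfold QuadraticMap.polar
      rw [← Matrix.mulVec_add, hA, hA, hA]
    let f : {A : GL (Fin (m + 2)) F //
        ∀ v : Fin (m + 2) → F, Q ((A : Matrix (Fin (m + 2)) (Fin (m + 2)) F) *ᵥ v) = Q v} →
        {p : (Fin (m + 2) → F) × (Fin (m + 2) → F) //
          Q p.1 = α ∧ Q p.2 = γ ∧ QuadraticMap.polar Q p.1 p.2 = β} := fun A =>
      ⟨((A.1 : Matrix (Fin (m + 2)) (Fin (m + 2)) F) *ᵥ x0,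
        (A.1 : Matrix (Fin (m + 2)) (Fin (m + 2)) F) *ᵥ y0),
        A.2 x0, A.2 y0, hpol A.1 A.2 x0 y0⟩
    refine (card_le_of_fibers f (Nat.card (GL (Fin m) F)) ?_).trans (Nat.mul_le_mul_right _ hT)
    intro p
    refine le_trans ?_ hK
    by_cases hne : Nonempty {a // f a = p}
    · obtain ⟨⟨A0, hA0⟩⟩ := hne
      have hA0x : (A0.1 : Matrix (Fin (m + 2)) (Fin (m + 2)) F) *ᵥ x0 = p.1.1 :=
        congrArg (fun t => t.1.1) hA0
      have hA0y : (A0.1 : Matrix (Fin (m + 2)) (Fin (m + 2)) F) *ᵥ y0 = p.1.2 :=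
        congrArg (fun t => t.1.2) hA0
      have hinv : ∀ v : Fin (m + 2) → F,
          ((A0.1⁻¹ : GL (Fin (m + 2)) F) : Matrix (Fin (m + 2)) (Fin (m + 2)) F) *ᵥ
            ((A0.1 : Matrix (Fin (m + 2)) (Fin (m + 2)) F) *ᵥ v) = v := by
        intro v
        rw [Matrix.mulVec_mulVec, ← Units.val_mul, inv_mul_cancel, Units.val_one, Matrix.one_mulVec]
      have hinv' : ∀ v : Fin (m + 2) → F,
          (A0.1 : Matrix (Fin (m + 2)) (Fin (m + 2)) F) *ᵥ
            (((A0.1⁻¹ : GL (Fin (m + 2)) F) : Matrix (Fin (m + 2)) (Fin (m + 2)) F) *ᵥ v) = v := by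
        intro v
        rw [Matrix.mulVec_mulVec, ← Units.val_mul, mul_inv_cancel, Units.val_one, Matrix.one_mulVec]
      apply Nat.card_le_card_of_injective
        (fun a : {a // f a = p} => (⟨A0.1⁻¹ * a.1.1, by
          have hax : (a.1.1 : Matrix (Fin (m + 2)) (Fin (m + 2)) F) *ᵥ x0 = p.1.1 :=
            congrArg (fun t => t.1.1) a.2
          have hay : (a.1.1 : Matrix (Fin (m + 2)) (Fin (m + 2)) F) *ᵥ y0 = p.1.2 :=
            congrArg (fun t => t.1.2) a.2
          refine ⟨?_, ?_, ?_⟩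
          · intro v
            rw [Units.val_mul, ← Matrix.mulVec_mulVec]
            have := A0.2 (((A0.1⁻¹ : GL (Fin (m + 2)) F) :
              Matrix (Fin (m + 2)) (Fin (m + 2)) F) *ᵥ
                ((a.1.1 : Matrix (Fin (m + 2)) (Fin (m + 2)) F) *ᵥ v))
            rw [hinv'] at this
            rw [← this, a.1.2]
          · rw [Units.val_mul, ← Matrix.mulVec_mulVec, hax, ← hA0x, hinv]
          · rw [Units.val_mul, ← Matrix.mulVec_mulVec, hay, ← hA0y, hinv]⟩ :
          {A : GL (Fin (m + 2)) F //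
            (∀ v : Fin (m + 2) → F, Q ((A : Matrix (Fin (m + 2)) (Fin (m + 2)) F) *ᵥ v) = Q v) ∧
            (A : Matrix (Fin (m + 2)) (Fin (m + 2)) F) *ᵥ x0 = x0 ∧
            (A : Matrix (Fin (m + 2)) (Fin (m + 2)) F) *ᵥ y0 = y0}))
      rintro ⟨⟨a, ha⟩, ha'⟩ ⟨⟨b, hb⟩, hb'⟩ hab
      have h1 : A0.1⁻¹ * a = A0.1⁻¹ * b := congrArg Subtype.val hab
      have h2 : a = b := mul_left_cancel h1
      subst h2
      rfl
    · rw [not_nonempty_iff] at hne
      rw [Nat.card_of_isEmpty]
      exact Nat.zero_le _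
  -- arithmetic
  have hGL := card_GL_add_two (F := F) m
  rw [← hq] at hGL
  rw [hGL]
  calc _ ≤ (q + 1) * q ^ m * (2 * q ^ m) * Nat.card (GL (Fin m) F) *
        ((q ^ (m + 2) - 1) * (q ^ (m + 2) - q)) := Nat.mul_le_mul_right _ hI
    _ = 2 * (q + 1) * ((q ^ (m + 2) - 1) * (q ^ (m + 2) - q) * q ^ (2 * m) *
          Nat.card (GL (Fin m) F)) := by
        rw [two_mul m, pow_add]
        ring

end iso

end Cfsg.Agent.Helper80.SpE
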