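import Cfsg.Agent.Helper5.PSpSimple
import Cfsg.Agent.S0269
import Cfsg.Agent.Helper80.OneChar
import Cfsg.Agent.Helper80.CharLevel

/-!
# `Sp_{2n}(q)`, `q` even, `(n, q) ≠ (2, 2)`: a non-linear irreducible character is faithful
-/

set_option autoImplicit false

namespace Cfsg.Agent.Helper80.SpE

open Matrix Cfsg.Agent.Helper5 MulAction
open scoped LinearAlgebra.Projectivization Pointwise

variable {F : Type*} [Field F] [Fintype F] {n : ℕ}

theorem faithful_of_irr (hn : 2 ≤ n) (heven : Even (Fintype.card F))
    (hex : (n, Fintype.card F) ≠ (2, 2))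
    {χ : Matrix.symplecticGroup (Fin n) F → ℂ}
    (hχ : Cfsg.IsIrrCharacter (Matrix.symplecticGroup (Fin n) F) χ) (hdeg : 2 ≤ Cfsg.charDegree χ)
    (g : Matrix.symplecticGroup (Fin n) F) (hg : g ≠ 1) : χ g ≠ χ 1 := by
  classical
  intro hgk
  have hc := IsIrrCharacter.isCharacter hχ
  have hq1 : 2 ≤ Fintype.card F := by
    rcases heven with ⟨r, hr⟩
    have := Fintype.card_pos (α := F)
    omega
  have hperf : commutator (Matrix.symplecticGroup (Fin n) F) = ⊤ := by
    apply Cfsg.Agent.S0269.result
    rcases Nat.lt_or_ge n 3 with h3 | h3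
    · right
      have hn2 : n = 2 := by omega
      subst hn2
      rcases heven with ⟨r, hr⟩
      have : Fintype.card F ≠ 2 := fun h => hex (by rw [h])
      right
      omega
    · left; exact h3
  have h2 : (2 : F) = 0 := Cfsg.Agent.Helper5.two_eq_zero_of_even_card heven
  have hneg : Cfsg.Agent.S0246.negOne n F = 1 := by
    apply Subtype.ext
    change (-1 : Matrix (Fin n ⊕ Fin n) (Fin n ⊕ Fin n) F) = 1
    have : (-1 : F) = 1 := by linear_combination -h2
    ext i j
    by_cases hij : i = j
    · subst hij; simp [this]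
    · simp [hij]
  set N := kerChar χ hc with hN
  have hgN : g ∈ N := (mem_kerChar hc g).mpr hgk
  by_cases hfix : fixedPoints N (ℙ F (Fin n ⊕ Fin n → F)) = Set.univ
  · have hg' : ∀ p : ℙ F (Fin n ⊕ Fin n → F), g • p = p := by
      intro p
      have hp : p ∈ fixedPoints N (ℙ F (Fin n ⊕ Fin n → F)) := by rw [hfix]; trivial
      exact hp ⟨g, hgN⟩
    rcases eq_one_or_negOne_of_fixes (by omega) g hg' with h | h
    · exact hg h
    · exact hg (h.trans hneg)
  · have hle := spIwasawa.commutator_le N hfix
    rw [hperf, top_le_iff] at hle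
    have h1 : Cfsg.charDegree χ = 1 := by
      apply IsIrrCharacter.charDegree_eq_one_of_commutator_le hχ
      intro x _
      have : x ∈ N := by rw [hle]; trivial
      exact (mem_kerChar hc x).mp this
    omega

end Cfsg.Agent.Helper80.SpE
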