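import Cfsg.Agent.Helper80.SpE.Iso
import Cfsg.Agent.Helper80.SpE.Ker

/-!
# S2333: the main bound, for characters
-/

set_option autoImplicit false
set_option linter.style.haveILetI false
set_option linter.unusedSectionVars false

namespace Cfsg.Agent.Helper80.SpE

open Matrix Cfsg.Agent.Helper80

variable {F : Type*} [Field F] [Fintype F] [DecidableEq F] {n : ℕ}

theorem sp_even_degree_bound (hn : 2 ≤ n) (heven : Even (Fintype.card F))
    (hex : (n, Fintype.card F) ≠ (2, 2))
    {χ : Matrix.symplecticGroup (Fin n) F → ℂ}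
    (hχ : Cfsg.IsIrrCharacter (Matrix.symplecticGroup (Fin n) F) χ) (hdeg : 2 ≤ Cfsg.charDegree χ) :
    (Fintype.card F ^ n - 1) * (Fintype.card F ^ n - Fintype.card F) /
      (2 * (Fintype.card F + 1)) ≤ Cfsg.charDegree χ := by
  classical
  letI : Fintype (Matrix.symplecticGroup (Fin n) F) := Fintype.ofFinite _
  letI : Fintype (symAdd n F) := Fintype.ofFinite _
  have hc := IsIrrCharacter.isCharacter hχ
  have h2 : (2 : F) = 0 := Cfsg.Agent.Helper5.two_eq_zero_of_even_card heven
  -- an element of the radical with zero diagonal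
  let i0 : Fin n := ⟨0, by omega⟩
  let i1 : Fin n := ⟨1, by omega⟩
  have hi01 : i0 ≠ i1 := by
    intro h
    have := congrArg Fin.val h
    simp [i0, i1] at this
  let v0 : symAdd n F := symOf (Matrix.single i0 i1 (1 : F))
  have hv0d : ∀ i, (v0 : Matrix (Fin n) (Fin n) F) i i = 0 := by
    intro i
    show (Matrix.single i0 i1 (1 : F) + (Matrix.single i0 i1 (1 : F))ᵀ) i i = 0
    rw [Matrix.add_apply, Matrix.transpose_apply, ← two_mul, h2, zero_mul]
  have hv0 : v0 ≠ 0 := by
    intro h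
    have h1 : (v0 : Matrix (Fin n) (Fin n) F) i0 i1 = 0 := by rw [h]; rfl
    have h3 : (v0 : Matrix (Fin n) (Fin n) F) i0 i1 = 1 := by
      show (Matrix.single i0 i1 (1 : F) + (Matrix.single i0 i1 (1 : F))ᵀ) i0 i1 = 1
      rw [Matrix.add_apply, Matrix.transpose_apply, Matrix.single_apply_same,
        Matrix.single_apply_of_ne, add_zero]
      intro h
      exact hi01 h.1
    rw [h3] at h1
    exact one_ne_zero h1
  have hker : ∃ v ∈ {S : symAdd n F | ∀ i, (S : Matrix (Fin n) (Fin n) F) i i = 0},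
      χ (uHom (Multiplicative.ofAdd v)) ≠ χ 1 := by
    refine ⟨v0, hv0d, faithful_of_irr hn heven hex hχ hdeg _ ?_⟩
    intro h
    rw [← map_one (uHom (F := F) (n := n))] at h
    exact hv0 (Multiplicative.ofAdd.injective (uHom_injective h))
  obtain ⟨m, hm1, hm2⟩ := exists_mult (uHom (F := F) (n := n)) hc
  obtain ⟨ψ, ⟨S, hS, hψS⟩, hcard⟩ := orbit_bound_of_mult (uHom (F := F) (n := n)) levHom lev_conj hc
    m hm1 hm2 {S : symAdd n F | ∀ i, (S : Matrix (Fin n) (Fin n) F) i i = 0} hker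
  obtain ⟨C, hC, hstab⟩ := exists_form_of_char h2 ψ ⟨S, hS, hψS⟩
  have hI := card_isometry_bound h2 hn C hC
  have hle : Nat.card {l : GL (Fin n) F // ∀ v : symAdd n F, ψ (l • v) = ψ v} ≤
      Nat.card {A : GL (Fin n) F //
        ∀ v : Fin n → F, qf C ((A : Matrix (Fin n) (Fin n) F) *ᵥ v) = qf C v} := by
    apply Nat.card_le_card_of_injective
      (fun l : {l : GL (Fin n) F // ∀ v : symAdd n F, ψ (l • v) = ψ v} =>
        (⟨l.1, hstab l.1 l.2⟩ : {A : GL (Fin n) F //
          ∀ v : Fin n → F, qf C ((A : Matrix (Fin n) (Fin n) F) *ᵥ v) = qf C v}))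
    rintro ⟨a, ha⟩ ⟨b, hb⟩ hab
    have : a = b := congrArg Subtype.val hab
    subst this
    rfl
  set I := Nat.card {A : GL (Fin n) F //
        ∀ v : Fin n → F, qf C ((A : Matrix (Fin n) (Fin n) F) *ᵥ v) = qf C v} with hIdef
  have hIpos : 0 < I := by
    rw [hIdef]
    apply Nat.card_pos_iff.mpr
    refine ⟨⟨⟨1, fun v => by simp⟩⟩, inferInstance⟩
  rw [← Nat.card_eq_fintype_card] at hcard
  set X := (Fintype.card F ^ n - 1) * (Fintype.card F ^ n - Fintype.card F) with hX
  set k := Cfsg.charDegree χ with hk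
  have h3 : I * X ≤ I * (2 * (Fintype.card F + 1) * k) := by
    calc I * X ≤ 2 * (Fintype.card F + 1) * Nat.card (GL (Fin n) F) := hI
      _ ≤ 2 * (Fintype.card F + 1) * (k * I) :=
        Nat.mul_le_mul_left _ (hcard.trans (Nat.mul_le_mul_left _ hle))
      _ = I * (2 * (Fintype.card F + 1) * k) := by ring
  have h4 : X ≤ 2 * (Fintype.card F + 1) * k := Nat.le_of_mul_le_mul_left h3 hIpos
  exact Nat.div_le_of_le_mul h4

end Cfsg.Agent.Helper80.SpE
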