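import Cfsg.Agent.Helper80.SpE.Defs
import Cfsg.Agent.Helper80.CharLevel
import Cfsg.Agent.Helper29.SpE_AB1
import Cfsg.Agent.Helper34.SpE_Q1a
import Cfsg.Agent.Helper42.SpE_Q1b
import Cfsg.Agent.Helper63.SpE_GL
import Cfsg.Agent.Helper63.SpE_Q3
import Cfsg.Agent.Helper75.SpE_AB2
import Cfsg.Agent.Helper42.SpE_PAR
import Cfsg.Agent.Helper75.SpE_Q1c
import Cfsg.Agent.Helper34.SpE_Q2

/-!
# S2333: the pieces, delivered by helper29 (AB1), helper75 (AB2, Q1c), helper42 (PAR, Q1b),
helper34 (Q1a, Q2), helper63 (Q3, GL); restated here under the skeleton names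
-/

set_option autoImplicit false

namespace Cfsg.Agent.Helper80.SpE

open Matrix

/-! ## abstract pieces -/

section abs

variable {G : Type*} [Group G] [Fintype G] {V : Type*} [AddCommGroup V] [Fintype V]

/-- (AB1) Fourier decomposition of the restriction of a character to an abelian subgroup, with
natural number multiplicities. -/
theorem exists_mult (u : Multiplicative V →* G) {χ : G → ℂ} (hχ : Cfsg.IsCharacter G χ) :
    ∃ m : AddChar V ℂ → ℕ,
      (∀ v : V, χ (u (Multiplicative.ofAdd v)) = ∑ ψ : AddChar V ℂ, (m ψ : ℂ) * ψ v) ∧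
      (∀ ψ : AddChar V ℂ, (m ψ : ℂ) * (Fintype.card V : ℂ) =
        ∑ v : V, χ (u (Multiplicative.ofAdd v)) * ψ (-v)) :=
  Cfsg.Agent.Helper29.SpE.exists_mult u hχ

/-- (AB2) the orbit bound: if `L` normalises the abelian subgroup `u(V)` and some element of
`u(V0)` is not in the kernel of `χ`, then some character `ψ` of `V`, non-trivial on `V0`, has an
`L`-orbit of length at most `χ(1)`. -/
theorem orbit_bound_of_mult {L : Type*} [Group L] [Fintype L] [DistribMulAction L V]
    (u : Multiplicative V →* G) (ι : L →* G)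
    (hconj : ∀ (l : L) (v : V), ι l * u (Multiplicative.ofAdd v) * (ι l)⁻¹ =
      u (Multiplicative.ofAdd (l • v)))
    {χ : G → ℂ} (hχ : Cfsg.IsCharacter G χ) (m : AddChar V ℂ → ℕ)
    (hm1 : ∀ v : V, χ (u (Multiplicative.ofAdd v)) = ∑ ψ : AddChar V ℂ, (m ψ : ℂ) * ψ v)
    (hm2 : ∀ ψ : AddChar V ℂ, (m ψ : ℂ) * (Fintype.card V : ℂ) =
        ∑ v : V, χ (u (Multiplicative.ofAdd v)) * ψ (-v))
    (V0 : Set V) (hker : ∃ v ∈ V0, χ (u (Multiplicative.ofAdd v)) ≠ χ 1) :
    ∃ ψ : AddChar V ℂ, (∃ v ∈ V0, ψ v ≠ 1) ∧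
      Fintype.card L ≤ Cfsg.charDegree χ * Nat.card {l : L // ∀ v : V, ψ (l • v) = ψ v} :=
  Cfsg.Agent.Helper75.SpE.orbit_bound_of_mult u ι hconj hχ m hm1 hm2 V0 hker

end abs

/-! ## the characters of the Siegel radical -/

section par

variable {F : Type*} [Field F] [Fintype F] {n : ℕ}

/-- (PAR) a character of the symmetric matrices which is non-trivial on the matrices with zero
diagonal gives a quadratic form `v ↦ vᵀ C v` with non-zero polar form, such that the stabiliser of
the character in `GL_n` consists of isometries of the form. -/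
theorem exists_form_of_char (h2 : (2 : F) = 0) (ψ : AddChar (symAdd n F) ℂ)
    (hnt : ∃ S : symAdd n F, (∀ i, (S : Matrix (Fin n) (Fin n) F) i i = 0) ∧ ψ S ≠ 1) :
    ∃ C : Matrix (Fin n) (Fin n) F, C + Cᵀ ≠ 0 ∧
      ∀ A : GL (Fin n) F, (∀ S : symAdd n F, ψ (A • S) = ψ S) →
        ∀ v : Fin n → F, qf C ((A : Matrix (Fin n) (Fin n) F) *ᵥ v) = qf C v :=
  Cfsg.Agent.Helper42.SpE.exists_form_of_char h2 ψ hnt

end par

/-! ## quadratic forms over a finite field of characteristic 2 -/

section quad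

variable {F : Type*} [Field F] [Fintype F] {V : Type*} [AddCommGroup V] [Module F V] [Fintype V]

/-- (Q1a) a quadratic form in at least 3 variables over a finite field of characteristic 2 has a
non-zero singular vector.  (Take `x ≠ 0` and `z ∉ F x` with `b(x, z) = 0`; then
`√(Q z) • x + √(Q x) • z` is singular, or `x` is.) -/
theorem exists_singular (h2 : (2 : F) = 0) (Q : QuadraticForm F V)
    (hd : 3 ≤ Module.finrank F V) : ∃ e : V, e ≠ 0 ∧ Q e = 0 :=
  Cfsg.Agent.Helper34.SpE.exists_singular h2 Q hd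

/-- (Q1c) a quadratic form on `F^d` has at least `q^(d-2)` zeros, given singular vectors in all
subspaces of dimension at least 3 (induction on the dimension of a subspace `H`: for `e ∈ H`
singular, either `b(h, e) ≠ 0` for some `h ∈ H` and every line `h + F e` off the hyperplane `e^⊥ ∩ H`
carries exactly one zero, or `Q (h + t e) = Q h` on `H` and one passes to a complement of `F e`
in `H`). -/
theorem card_le_of_singular (h2 : (2 : F) = 0) (Q : QuadraticForm F V)
    (hsing : ∀ H : Submodule F V, 3 ≤ Module.finrank F H → ∃ e ∈ H, e ≠ 0 ∧ Q e = 0) :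
    Fintype.card V ≤ Fintype.card F ^ 2 * Nat.card {v : V // Q v = 0} :=
  Cfsg.Agent.Helper75.SpE.card_le_of_singular h2 Q hsing

/-- (Q1b) hence it takes a non-zero value `α` at most `(q+1) q^(d-2)` times. -/
theorem card_level_le (h2 : (2 : F) = 0) (Q : QuadraticForm F V)
    (h0 : Fintype.card V ≤ Fintype.card F ^ 2 * Nat.card {v : V // Q v = 0})
    (α : F) (hα : α ≠ 0) :
    Fintype.card F ^ 2 * Nat.card {v : V // Q v = α} ≤ (Fintype.card F + 1) * Fintype.card V :=
  Cfsg.Agent.Helper42.SpE.card_level_le h2 Q h0 α hα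

/-- (Q2) for `Q x ≠ 0` and `β ≠ 0` there are at most `2 q^(d-2)` vectors `y` with `Q y = γ` and
`b(x, y) = β`. -/
theorem card_fiber_le (h2 : (2 : F) = 0) (Q : QuadraticForm F V) (x : V) (hx : Q x ≠ 0)
    (β : F) (hβ : β ≠ 0) (γ : F) :
    Fintype.card F ^ 2 * Nat.card {y : V // Q y = γ ∧ QuadraticMap.polar Q x y = β} ≤
      2 * Fintype.card V :=
  Cfsg.Agent.Helper34.SpE.card_fiber_le h2 Q x hx β hβ γ

end quad

section stab

variable {F : Type*} [Field F] [Fintype F] {n : ℕ}

/-- (Q3) the isometries fixing `x` and `y` with `b(x, y) ≠ 0` embed into `GL_{n-2}`. -/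
theorem card_stab_le (h2 : (2 : F) = 0) (Q : QuadraticForm F (Fin n → F)) (x y : Fin n → F)
    (hxy : QuadraticMap.polar Q x y ≠ 0) :
    Nat.card {A : GL (Fin n) F // (∀ v : Fin n → F, Q ((A : Matrix (Fin n) (Fin n) F) *ᵥ v) = Q v) ∧
        (A : Matrix (Fin n) (Fin n) F) *ᵥ x = x ∧ (A : Matrix (Fin n) (Fin n) F) *ᵥ y = y} ≤
      Nat.card (GL (Fin (n - 2)) F) :=
  Cfsg.Agent.Helper63.SpE.card_stab_le h2 Q x y hxy

/-- (GL) the order of `GL_{m+2}(q)`. -/
theorem card_GL_add_two (m : ℕ) :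
    Nat.card (GL (Fin (m + 2)) F) =
      (Fintype.card F ^ (m + 2) - 1) * (Fintype.card F ^ (m + 2) - Fintype.card F) *
        Fintype.card F ^ (2 * m) * Nat.card (GL (Fin m) F) :=
  Cfsg.Agent.Helper63.SpE.card_GL_add_two m

end stab

end Cfsg.Agent.Helper80.SpE
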